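import Cfsg.Agent.H182.CentOrth
import Cfsg.Agent.H379.P4.TwoElt
import Cfsg.Agent.LieClassical.SympCenter
import Cfsg.Agent.H134.OmegaThree
import Cfsg.Agent.Prune
set_option linter.all false

-- part: H182/CentSp
section
set_option linter.all false
open scoped Cfsg.Agent.FastGrp

/-!
# Odd components of `PSp(2m, q)` are cyclic and isolated (helper182)
-/

set_option autoImplicit false
set_option linter.unusedSectionVars false
set_option linter.style.haveILetI false

namespace Cfsg.Agent.H182.Cent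

open Module
open Cfsg.Agent.H94.PG Cfsg.Agent.H564.NearTwo

section

variable {F : Type*} [Field F] {m : ℕ}

/-- the symplectic form -/
noncomputable def spForm (m : ℕ) (F : Type*) [Field F] : LinearMap.BilinForm F (Fin m ⊕ Fin m → F) :=
  Matrix.toBilin' (Matrix.J (Fin m) F)

theorem spForm_apply (v w : Fin m ⊕ Fin m → F) : spForm m F v w = v ⬝ᵥ (Matrix.J (Fin m) F).mulVec w :=
  Matrix.toBilin'_apply' _ _ _

theorem spForm_alt (v : Fin m ⊕ Fin m → F) : spForm m F v v = 0 := by
  rw [spForm_apply, Matrix.J]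
  have : v = Sum.elim (v ∘ Sum.inl) (v ∘ Sum.inr) := (Sum.elim_comp_inl_inr v).symm
  rw [this, Matrix.fromBlocks_mulVec, sumElim_dotProduct_sumElim]
  simp only [Sum.elim_comp_inl, Sum.elim_comp_inr, Matrix.zero_mulVec, Matrix.one_mulVec, Matrix.neg_mulVec, zero_add,
    add_zero]
  rw [dotProduct_neg, dotProduct_comm, neg_add_cancel]

theorem sform_sp : SForm (RingHom.id F) (fun v w : Fin m ⊕ Fin m → F => spForm m F v w) where
  add_left u v w := LinearMap.BilinForm.add_left u v w
  smul_left c v w := LinearMap.BilinForm.smul_left c v w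
  add_right u v w := LinearMap.BilinForm.add_right u v w
  smul_right c v w := LinearMap.BilinForm.smul_right c v w
  refl v w h := by
    have h1 : (spForm m F).IsAlt := spForm_alt
    exact h1.isRefl v w h

theorem spForm_nondeg (v : Fin m ⊕ Fin m → F) (h : ∀ w, spForm m F v w = 0) : v = 0 := by
  funext i
  have h1 := h ((Matrix.J (Fin m) F).mulVec (Pi.single i 1))
  rw [spForm_apply, Matrix.mulVec_mulVec, Matrix.J_squared, Matrix.neg_mulVec, Matrix.one_mulVec, dotProduct_neg,
    dotProduct_single, mul_one, neg_eq_zero] at h1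
  exact h1

/-- the symplectic group acting on the vectors -/
def rhoSp (m : ℕ) (F : Type*) [Field F] : Matrix.symplecticGroup (Fin m) F →* Module.End F (Fin m ⊕ Fin m → F) :=
  ((Matrix.toLinAlgEquiv' : Matrix (Fin m ⊕ Fin m) (Fin m ⊕ Fin m) F ≃ₐ[F] Module.End F (Fin m ⊕ Fin m → F)) :
    Matrix (Fin m ⊕ Fin m) (Fin m ⊕ Fin m) F →* Module.End F (Fin m ⊕ Fin m → F)).comp
    (Matrix.symplecticGroup (Fin m) F).subtype

theorem rhoSp_apply (g : Matrix.symplecticGroup (Fin m) F) (v : Fin m ⊕ Fin m → F) :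
    rhoSp m F g v = (g : Matrix (Fin m ⊕ Fin m) (Fin m ⊕ Fin m) F).mulVec v := rfl

theorem rhoSp_injective : Function.Injective (rhoSp m F) := by
  intro g h hgh
  apply Subtype.ext
  exact (Matrix.toLinAlgEquiv' : Matrix (Fin m ⊕ Fin m) (Fin m ⊕ Fin m) F ≃ₐ[F]
    Module.End F (Fin m ⊕ Fin m → F)).injective hgh

theorem rhoSp_isom (g : Matrix.symplecticGroup (Fin m) F) (v w : Fin m ⊕ Fin m → F) :
    spForm m F (rhoSp m F g v) (rhoSp m F g w) = spForm m F v w := by
  rw [spForm_apply, spForm_apply, rhoSp_apply, rhoSp_apply]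
  have h := SymplecticGroup.mem_iff'.1 g.2
  rw [Matrix.mulVec_mulVec, Matrix.dotProduct_mulVec, ← Matrix.vecMul_transpose, Matrix.vecMul_vecMul,
    ← Matrix.mul_assoc, h, ← Matrix.dotProduct_mulVec]

/-- The blocks have even dimension. -/
theorem even_block_sp {Z : Submodule F (Fin m ⊕ Fin m → F)} (hnd : NonDeg (fun v w => spForm m F v w) Z) :
    Even (finrank F Z) := by
  refine even_of_alt (LinearMap.BilinForm.restrict (spForm m F) Z) (fun v => spForm_alt v.1) ?_
  intro v hv
  exact Subtype.ext (hnd v v.2 fun w hw => hv ⟨w, hw⟩)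

/-- **The row data of `PSp(2m, q)`.** -/
theorem rowData_sp [Finite F] (hm : 2 ≤ m) : RowData (sform_sp (m := m) (F := F)) (rhoSp m F) := by
  have hdim : finrank F (Fin m ⊕ Fin m → F) = 2 * m := by
    rw [Module.finrank_fintype_fun_eq_card]
    simp only [Fintype.card_sum, Fintype.card_fin]
    omega
  refine ⟨rhoSp_injective, rhoSp_isom, spForm_nondeg, by rw [hdim]; omega, ?_, ?_, ?_⟩
  · intro z hz
    obtain ⟨a, ha⟩ := (LieClassical.SympCenter.mem_center_iff m z).1 hz
    have h2 : a * a = 1 := LieClassical.SympCenter.sq_eq_one_of_smul_mem (m := m) (by omega) (by rw [← ha]; exact z.2)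
    rcases mul_self_eq_one_iff.1 h2 with h | h
    · left
      apply LinearMap.ext
      intro v
      rw [rhoSp_apply, ha, h, one_smul, Matrix.one_mulVec]
      rfl
    · right
      apply LinearMap.ext
      intro v
      rw [rhoSp_apply, ha, h, neg_smul, one_smul, Matrix.neg_mulVec, Matrix.one_mulVec]
      rfl
  · intro r hr hr2 h
    refine Cfsg.Agent.H377.psp_adj_two_of_char hm hr hr2 ?_
    haveI : CharP F r := by
      obtain ⟨c, hc⟩ := CharP.exists F
      have hcp : c.Prime := CharP.char_is_prime F c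
      have h1 : c ∣ r := (CharP.cast_eq_zero_iff F c r).1 h
      rwa [(Nat.prime_dvd_prime_iff_eq hcp hr).1 h1] at hc
    classical
    letI := Fintype.ofFinite F
    haveI : Fact r.Prime := ⟨hr⟩
    obtain ⟨a, -, ha⟩ := FiniteField.card F r
    rw [Nat.card_eq_fintype_card, ha]
    exact dvd_pow_self r a.ne_zero
  · intro g r hr hr2 hrF hgr hg1 hna Z hZ h0 hndZ hfix
    have hxr : (rhoSp m F g) ^ r = 1 := by rw [← map_pow, hgr, map_one]
    obtain ⟨k, hk⟩ := even_block_sp hndZ
    have hdvd := dvd_pow_sub_one hr hxr hZ hfix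
    have hk2 : finrank F Z = 2 * k := by omega
    rw [hk2] at hdvd
    have hk0 : k ≠ 0 := by
      rintro rfl
      apply h0
      exact Submodule.finrank_eq_zero.1 (by omega)
    have hkm : m ≤ k := by
      by_contra hlt
      exact hna (Cfsg.Agent.H377.psp_adj_two_of_dvd (by omega) (by omega) hr hr2 hdvd)
    rw [hdim]
    omega

end

theorem hasCyc_of_isPSp {S : Type*} [Group S] (h : Cfsg.IsPSp S) {r : ℕ} (hr : r.Prime)
    (hd : r ∣ Nat.card S) (hn : ¬ Near S r) : HasCyc S r := by
  obtain ⟨F, _, _, m, hm, -, ⟨e⟩⟩ := h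
  rw [Nat.card_congr e.toEquiv] at hd
  rw [near_congr e] at hn
  exact ((rowData_sp hm).hasCyc hr hd hn).congr e.symm

end Cfsg.Agent.H182.Cent
end

-- part: H182/CentAll
section
set_option linter.all false

/-!
# The prime graph of the classical groups `PSp`, `PΩ`, `PΩ⁺`, `PΩ⁻` (helper182)

`hasCyc` : a prime divisor which is not at distance at most two from `2` divides the order of a cyclic subgroup which
contains the centralizers of its nonidentity elements; `good2` : hence `Good2`, `Good` and `AC`.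
-/

set_option autoImplicit false

namespace Cfsg.Agent.H182.Cent

open Cfsg.Agent.H94.PG Cfsg.Agent.H564.NearTwo

/-- **All four families.** -/
theorem hasCyc {S : Type*} [Group S]
    (h : Cfsg.IsPSp S ∨ Cfsg.IsPOmegaOdd S ∨ Cfsg.IsPOmegaPlus S ∨ Cfsg.IsPOmegaMinus S) {r : ℕ} (hr : r.Prime)
    (hd : r ∣ Nat.card S) (hn : ¬ Near S r) : HasCyc S r := by
  rcases h with h | h | h | h
  · exact hasCyc_of_isPSp h hr hd hn
  · exact hasCyc_of_isPOmegaOdd h hr hd hn
  · exact hasCyc_of_isPOmegaPlus h hr hd hn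
  · exact hasCyc_of_isPOmegaMinus h hr hd hn

theorem good2 {S : Type*} [Group S]
    (h : Cfsg.IsPSp S ∨ Cfsg.IsPOmegaOdd S ∨ Cfsg.IsPOmegaPlus S ∨ Cfsg.IsPOmegaMinus S) : Good2 S :=
  fun _ hr hd hn => (hasCyc h hr hd hn).hasCC

theorem good {S : Type*} [Group S]
    (h : Cfsg.IsPSp S ∨ Cfsg.IsPOmegaOdd S ∨ Cfsg.IsPOmegaPlus S ∨ Cfsg.IsPOmegaMinus S) : Good S :=
  fun _ hr hd hn => (hasCyc h hr hd fun h' => hn h'.conn).hasCC

theorem ac {S : Type*} [Group S] [Finite S]
    (h : Cfsg.IsPSp S ∨ Cfsg.IsPOmegaOdd S ∨ Cfsg.IsPOmegaPlus S ∨ Cfsg.IsPOmegaMinus S) : AC S :=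
  (good h).ac

end Cfsg.Agent.H182.Cent
end
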